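import Cfsg.Agent.Lib.PG.Gen

set_option autoImplicit false
set_option maxRecDepth 100000
set_option Elab.async false
set_option exponentiation.threshold 100000

namespace Cfsg.Agent.Golay.H1551
open Cfsg.Agent.PG

noncomputable def n0 : Net :=
 (.cons 32 0xc0000000
 (.cons 16 0xe00000004168
 (.cons 8 0x880091000d
 (.cons 4 0xc0a080a0108
 (.cons 2 0x2000031103222032
 (.cons 1 0x4000451544140455
 (.cons 2 0x2000002010220000
 (.cons 4 0x102000c0a00
 (.cons 8 0xc200ca0087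
 (.cons 16 0xe00000004279
 (.cons 32 0xc0000000
 .nil)))))))))))

noncomputable def n1 : Net :=
 (.cons 32 0xc0000000
 (.cons 16 0x10000440a
 (.cons 8 0x1003000440002
 (.cons 4 0x1000e0e06000a08
 (.cons 2 0x1000203002210012
 (.cons 1 0x4000015410010151
 (.cons 2 0x10010020102
 (.cons 4 0x100080004040102
 (.cons 8 0x1008a00100080
 (.cons 16 0x1000050d3
 (.cons 32 0xc0000000
 .nil)))))))))))

noncomputable def n2 : Net :=
 (.cons 32 0x40000000
 (.cons 16 0x10000042b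
 (.cons 8 0x40002c00840039
 (.cons 4 0x4020c0c040803
 (.cons 2 0x1111210023120
 (.cons 1 0x414410155154
 (.cons 2 0x202020100201
 (.cons 4 0x4040a04000200
 (.cons 8 0x40002a00800094
 (.cons 16 0x100000837
 (.cons 32 0x40000000
 .nil)))))))))))

noncomputable def n3 : Net :=
 (.cons 32 0x80000000
 (.cons 16 0x800000004250
 (.cons 8 0x8000020048
 (.cons 4 0xb010c000108
 (.cons 2 0x103022223120
 (.cons 1 0x115414445011
 (.cons 2 0x10022220020
 (.cons 4 0x4010c000108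
 (.cons 8 0x8000020048
 (.cons 16 0x800000004250
 (.cons 32 0x80000000
 .nil)))))))))))

noncomputable def n4 : Net :=
 (.cons 32 0x80000000
 (.cons 16 0x1000000ef
 (.cons 8 0x80000100000063
 (.cons 4 0x804080000000c
 (.cons 2 0x2300300233110
 (.cons 1 0x1541510515414
 (.cons 2 0x2000000000000
 (.cons 4 0x8040800000504
 (.cons 8 0x800001000000ac
 (.cons 16 0x10000001f
 (.cons 32 0x80000000
 .nil)))))))))))

noncomputable def n5 : Net :=
 (.cons 32 0xc0000000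
 (.cons 16 0x40000000a062
 (.cons 8 0xc1000900c0
 (.cons 4 0x50400000402
 (.cons 2 0x311302221200
 (.cons 1 0x4000451401044401
 (.cons 2 0x2002020001
 (.cons 4 0x20808020400
 (.cons 8 0x20002900c0
 (.cons 16 0x80000000a044
 (.cons 32 0xc0000000
 .nil)))))))))))

noncomputable def n6 : Net :=
 (.cons 16 0x2200
 (.cons 8 0x440040
 (.cons 4 0x6000400
 (.cons 2 0x22001020
 (.cons 1 0x44100415
 (.cons 2 0x22000020
 (.cons 4 0x400
 (.cons 8 0x440040
 (.cons 16 0x2200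
 .nil)))))))))

noncomputable def n7 : Net :=
 (.cons 16 0x40
 (.cons 8 0x40
 (.cons 4 0x20100
 (.cons 2 0x222223
 (.cons 1 0x11040
 (.cons 2 0x22020
 (.cons 4 0x20100
 (.cons 8 0x40
 .nil))))))))

noncomputable def n8 : Net :=
 (.cons 16 0x2040
 (.cons 8 0x40050
 (.cons 4 0x4080400
 (.cons 2 0x20021230
 (.cons 1 0x40100050
 (.cons 2 0x20000000
 (.cons 4 0x4080400
 (.cons 8 0x40050
 (.cons 16 0x2000
 .nil)))))))))

noncomputable def n9 : Net :=
 (.cons 16 0xa900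
 (.cons 8 0xd00d0
 (.cons 4 0xc080400
 (.cons 2 0x20000200
 (.cons 1 0x40504400
 (.cons 2 0x20000200
 (.cons 4 0x4080400
 (.cons 8 0xc00c0
 (.cons 16 0xa900
 .nil)))))))))

noncomputable def n10 : Net :=
 (.cons 16 0xa900
 (.cons 8 0x610040
 (.cons 4 0x8060400
 (.cons 2 0x2320220
 (.cons 1 0x41010440
 (.cons 2 0x2020220
 (.cons 4 0x8060400
 (.cons 8 0x410040
 (.cons 16 0xa900
 .nil)))))))))

noncomputable def n11 : Net :=
 (.cons 16 0x6280
 (.cons 8 0x460040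
 (.cons 4 0x6040800
 (.cons 2 0x22030220
 (.cons 1 0x44154100
 (.cons 2 0x22000200
 (.cons 4 0x40800
 (.cons 8 0x40040
 (.cons 16 0x6280
 .nil)))))))))

noncomputable def A : List Net := [n0, n1, n2, n3, n4, n5, n6, n7, n8, n9, n10, n11]

theorem hA : okA (2 ^ 6) A = true := by decide +kernel

theorem hlen : A.length = 12 := rfl

def tr8 : List ℕ := [1, 0x114, 0x116, 0x11416]

def ce8 : List (List (ℕ × ℕ)) := [[(1, 1), (2, 1)],
  [(0, 1), (3, 1)],
  [(3, 1), (0, 1)],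
  [(2, 1), (1, 1)]]

noncomputable def cl8_l : List Claim := plainClaims 10 tr8 ce8

def tr7 : List ℕ := [1, 0x110, 0x112, 0x11012]

def ce7 : List (List (ℕ × ℕ)) := [[(1, 1), (2, 1), (0, 0x114), (0, 0x116)],
  [(0, 1), (3, 1), (1, 0x114), (1, 0x116)],
  [(3, 1), (0, 1), (2, 0x114), (2, 0x116)],
  [(2, 1), (1, 1), (3, 0x114), (3, 0x116)]]

noncomputable def cl7_l : List Claim := plainClaims 8 tr7 ce7

def tr6 : List ℕ := [1, 0x10c, 0x10e, 0x10c0e]

def ce6 : List (List (ℕ × ℕ)) := [[(1, 1), (2, 1), (0, 0x110), (0, 0x112), (0, 0x114), (0, 0x116)],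
  [(0, 1), (3, 1), (1, 0x110), (1, 0x112), (1, 0x114), (1, 0x116)],
  [(3, 1), (0, 1), (2, 0x110), (2, 0x112), (2, 0x114), (2, 0x116)],
  [(2, 1), (1, 1), (3, 0x110), (3, 0x112), (3, 0x114), (3, 0x116)]]

noncomputable def cl6_l : List Claim := plainClaims 6 tr6 ce6

def tr5 : List ℕ := [1, 0x10a, 0x10b]

def ce5 : List (List (ℕ × ℕ)) := [[(1, 1), (0, 0x10c), (0, 0x10e), (0, 0x110), (0, 0x112), (0, 0x114), (0, 0x116)],
  [(2, 1), (1, 0x114120c0e), (1, 0x11610120c), (1, 0x1141612), (1, 0x1141012), (1, 0x11416), (1, 0x114)],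
  [(0, 1), (2, 0x114120e), (2, 0x11610120c0e), (2, 0x114161012), (2, 0x11410), (2, 0x116), (2, 0x11416)]]

noncomputable def cl5_l : List Claim := plainClaims 5 tr5 ce5

def tr4 : List ℕ := [1, 0x108]

def ce4 : List (List (ℕ × ℕ)) := [[(1, 1), (0, 0x10b), (0, 0x10c), (0, 0x10e), (0, 0x110), (0, 0x112), (0, 0x114), (0, 0x116)],
  [(0, 0x114100c), (1, 0x1140c0a), (1, 0x11416120c), (1, 0x11610120c0e), (1, 0x114161012), (1, 0x11412), (1, 0x114), (1, 0x11416)]]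

noncomputable def cl4_l : List Claim := plainClaims 4 tr4 ce4

def tr3 : List ℕ := [1, 0x106, 0x10608]

def ce3 : List (List (ℕ × ℕ)) := [[(1, 1), (0, 0x114100c08), (0, 0x10b), (0, 0x10c), (0, 0x10e), (0, 0x110), (0, 0x112), (0, 0x114), (0, 0x116)],
  [(0, 1), (2, 1), (1, 0x114160a), (1, 0x10c), (1, 0x1141610120c0e), (1, 0x1141612), (1, 0x11410), (1, 0x11416), (1, 0x116)],
  [(2, 0x114100e08), (1, 0x1120c), (2, 0x1160c0b), (2, 0x1100c), (2, 0x114160e), (2, 0x114161012), (2, 0x11610), (2, 0x11416), (2, 0x114)]]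

noncomputable def cl3_l : List Claim := plainClaims 3 tr3 ce3

def tr2 : List ℕ := [1, 0x104, 0x105, 0x10404]

def ce2 : List (List (ℕ × ℕ)) := [[(1, 1), (0, 0x106), (0, 0x114100c08), (0, 0x10b), (0, 0x10c), (0, 0x10e), (0, 0x110), (0, 0x112), (0, 0x114), (0, 0x116)],
  [(3, 1), (2, 0x11410120e0b06), (3, 0x116100b0806), (1, 0x11416100c0a), (1, 0x1120c0e), (1, 0x1140e), (1, 0x11012), (1, 0x11412), (1, 0x116), (1, 0x114)],
  [(0, 1), (1, 0x114100c0b06), (2, 0x1120c0b080608), (2, 0x1141610120e0a), (2, 0x1120c0e), (2, 0x1160e), (2, 0x1161012), (2, 0x11612), (2, 0x116), (2, 0x114)],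
  [(2, 1), (3, 0x10c06), (1, 0x1140c0a0608), (3, 0x10c0b), (3, 0x10c), (3, 0x114160e), (3, 0x11410), (3, 0x1141612), (3, 0x114), (3, 0x116)]]

noncomputable def cl2_l : List Claim := plainClaims 2 tr2 ce2

def tr1 : List ℕ := [1, 0x102, 0x103, 0x10202, 0x10206]

def ce1 : List (List (ℕ × ℕ)) := [[(1, 1), (0, 0x105), (0, 0x106), (0, 0x114100c08), (0, 0x10b), (0, 0x10c), (0, 0x10e), (0, 0x110), (0, 0x112), (0, 0x114), (0, 0x116)],
  [(3, 1), (2, 0x104), (4, 1), (1, 0x114100e0b080608), (1, 0x1140c0b), (1, 0x1120c0e), (1, 0x1141610120c), (1, 0x1141610), (1, 0x11610), (1, 0x1141612), (1, 0x110)],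
  [(0, 1), (4, 0x114100c0b0605), (2, 0x1140a060404), (2, 0x11610060804), (2, 0x1141610120e0b), (2, 0x114160e), (2, 0x1100c0e), (2, 0x116), (2, 0x1141610), (2, 0x11012), (2, 0x11612)],
  [(4, 0x11416100a0806080404), (1, 0x10c060804), (3, 0x1141612080605), (4, 0x114160c0e08060804), (3, 0x1160e0b), (3, 0x1140e), (3, 0x116100c0e), (3, 0x112), (3, 0x11416), (3, 0x11412), (3, 0x1141610)],
  [(2, 0x1141610120c0a060805), (3, 0x114100c0e08060805), (1, 1), (3, 0x11416120e0a08060404), (4, 0x114100c0e0a), (4, 0x1120c0e), (4, 0x114120e), (4, 0x11412), (4, 0x11012), (4, 0x114161012), (4, 0x110)]]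

noncomputable def cl1_l : List Claim := plainClaims 1 tr1 ce1

def tr0 : List ℕ := [1, 0x100, 0x101, 0x10003, 0x10005, 0x1000303]

def ce0 : List (List (ℕ × ℕ)) := [[(1, 1), (0, 0x103), (0, 0x105), (0, 0x106), (0, 0x114100c08), (0, 0x10b), (0, 0x10c), (0, 0x10e), (0, 0x110), (0, 0x112), (0, 0x114), (0, 0x116)],
  [(2, 0x114100c0e06), (2, 0x1100c0e02), (3, 0x1140c0e060804), (1, 0x11606), (1, 0x11410120c0e0a080608), (1, 0x110120c0a), (1, 0x1141012), (1, 0x11416120c), (1, 0x11416), (1, 0x110120c0e), (1, 0x1160e), (1, 0x1141610120c)],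
  [(0, 1), (4, 0x10b0503), (2, 0x11610120c0b08040206), (2, 0x11416101206), (2, 0x1140c0b080608), (2, 0x116120a), (2, 0x11410120c), (2, 0x1161012), (2, 0x1160e), (2, 0x114120c0e), (2, 0x1141612), (2, 0x114161012)],
  [(4, 0x1120c0e0b040206), (1, 1), (5, 0x114120e0a08), (4, 0x114160a0804), (5, 0x1160b05), (3, 0x114100a), (3, 0x116100e), (3, 0x114100c), (3, 0x1141610120c), (3, 0x11610120c0e), (3, 0x1141610120c0e), (3, 0x114160e)],
  [(3, 0x1140a060503), (5, 0x10c0e0a04), (1, 1), (3, 0x11410120a08060805), (4, 0x114161208), (4, 0x116120c0e0b), (4, 0x116120e), (4, 0x110), (4, 0x10e), (4, 0x114160e), (4, 0x1141610120c), (4, 0x1160e)],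
  [(5, 0x11416100c0b0806080202), (3, 1), (4, 0x11416120c0e08060404), (5, 0x1140e0b080605), (3, 0x114160e0b04), (5, 0x11410120e0a), (5, 0x11412), (5, 0x110120e), (5, 0x114160e), (5, 0x11416), (5, 0x1140e), (5, 0x11410120c)]]

noncomputable def cl0_l : List Claim := plainClaims 0 tr0 ce0

theorem cl8_0 : chk A 6 (cl8_l) = true := by decide +kernel

theorem ok8 : plainOK A 10 12 5 tr8 ce8 = true := by decide +kernel

theorem orb8 : orbCardB A 3 10 5 2 4 = true := by decide +kernel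

theorem cl7_0 : chk A 6 (cl7_l) = true := by decide +kernel

theorem ok7 : plainOK A 8 10 4 tr7 ce7 = true := by decide +kernel

theorem orb7 : orbCardB A 3 8 4 2 4 = true := by decide +kernel

theorem cl6_0 : chk A 6 (cl6_l) = true := by decide +kernel

theorem ok6 : plainOK A 6 8 0 tr6 ce6 = true := by decide +kernel

theorem orb6 : orbCardB A 3 6 0 2 4 = true := by decide +kernel

theorem cl5_0 : chk A 6 (cl5_l) = true := by decide +kernel

theorem ok5 : plainOK A 5 6 30 tr5 ce5 = true := by decide +kernel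

theorem orb5 : orbCardB A 3 5 30 3 3 = true := by decide +kernel

theorem cl4_0 : chk A 6 (cl4_l) = true := by decide +kernel

theorem ok4 : plainOK A 4 5 28 tr4 ce4 = true := by decide +kernel

theorem orb4 : orbCardB A 3 4 28 2 2 = true := by decide +kernel

theorem cl3_0 : chk A 6 (cl3_l) = true := by decide +kernel

theorem ok3 : plainOK A 3 4 27 tr3 ce3 = true := by decide +kernel

theorem orb3 : orbCardB A 3 3 27 2 3 = true := by decide +kernel

theorem cl2_0 : chk A 6 (cl2_l) = true := by decide +kernel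

theorem ok2 : plainOK A 2 3 26 tr2 ce2 = true := by decide +kernel

theorem orb2 : orbCardB A 3 2 26 2 4 = true := by decide +kernel

theorem cl1_0 : chk A 6 (cl1_l) = true := by decide +kernel

theorem ok1 : plainOK A 1 2 25 tr1 ce1 = true := by decide +kernel

theorem orb1 : orbCardB A 3 1 25 2 5 = true := by decide +kernel

theorem cl0_0 : chk A 6 (cl0_l) = true := by decide +kernel

theorem ok0 : plainOK A 0 1 24 tr0 ce0 = true := by decide +kernel

theorem orb0 : orbCardB A 3 0 24 2 6 = true := by decide +kernel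

theorem card9 : Nat.card (K A 12) = 1 := card_K_last A (le_of_eq hlen)

theorem cl8 : ∀ c ∈ cl8_l, Holds A c :=
  (chk_spec hA cl8_0)

theorem stab8 : StabIs A 10 5 12 := stabIs_plain hA ok8 cl8

theorem card8 : Nat.card (K A 10) = 4 := card_K_step hA stab8 orb8 card9

theorem cl7 : ∀ c ∈ cl7_l, Holds A c :=
  (chk_spec hA cl7_0)

theorem stab7 : StabIs A 8 4 10 := stabIs_plain hA ok7 cl7

theorem card7 : Nat.card (K A 8) = 16 := card_K_step hA stab7 orb7 card8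

theorem cl6 : ∀ c ∈ cl6_l, Holds A c :=
  (chk_spec hA cl6_0)

theorem stab6 : StabIs A 6 0 8 := stabIs_plain hA ok6 cl6

theorem card6 : Nat.card (K A 6) = 64 := card_K_step hA stab6 orb6 card7

theorem cl5 : ∀ c ∈ cl5_l, Holds A c :=
  (chk_spec hA cl5_0)

theorem stab5 : StabIs A 5 30 6 := stabIs_plain hA ok5 cl5

theorem card5 : Nat.card (K A 5) = 192 := card_K_step hA stab5 orb5 card6

theorem cl4 : ∀ c ∈ cl4_l, Holds A c :=
  (chk_spec hA cl4_0)

theorem stab4 : StabIs A 4 28 5 := stabIs_plain hA ok4 cl4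

theorem card4 : Nat.card (K A 4) = 384 := card_K_step hA stab4 orb4 card5

theorem cl3 : ∀ c ∈ cl3_l, Holds A c :=
  (chk_spec hA cl3_0)

theorem stab3 : StabIs A 3 27 4 := stabIs_plain hA ok3 cl3

theorem card3 : Nat.card (K A 3) = 1152 := card_K_step hA stab3 orb3 card4

theorem cl2 : ∀ c ∈ cl2_l, Holds A c :=
  (chk_spec hA cl2_0)

theorem stab2 : StabIs A 2 26 3 := stabIs_plain hA ok2 cl2

theorem card2 : Nat.card (K A 2) = 4608 := card_K_step hA stab2 orb2 card3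

theorem cl1 : ∀ c ∈ cl1_l, Holds A c :=
  (chk_spec hA cl1_0)

theorem stab1 : StabIs A 1 25 2 := stabIs_plain hA ok1 cl1

theorem card1 : Nat.card (K A 1) = 23040 := card_K_step hA stab1 orb1 card2

theorem cl0 : ∀ c ∈ cl0_l, Holds A c :=
  (chk_spec hA cl0_0)

theorem stab0 : StabIs A 0 24 1 := stabIs_plain hA ok0 cl0

theorem card0 : Nat.card (K A 0) = 138240 := card_K_step hA stab0 orb0 card1

theorem fixTriv0 {B : Set ℕ} (h0 : 24 ∈ B) (h1 : 25 ∈ B) (h2 : 26 ∈ B) (h3 : 27 ∈ B) (h4 : 28 ∈ B) (h5 : 30 ∈ B) (h6 : 0 ∈ B) (h7 : 4 ∈ B) (h8 : 5 ∈ B) : FixTriv (K A 0) B :=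
  fixTriv_step stab0 h0 <| fixTriv_step stab1 h1 <| fixTriv_step stab2 h2 <| fixTriv_step stab3 h3 <| fixTriv_step stab4 h4 <| fixTriv_step stab5 h5 <| fixTriv_step stab6 h6 <| fixTriv_step stab7 h7 <| fixTriv_step stab8 h8 <| fixTriv_last A (le_of_eq hlen) B

theorem fixTriv1 {B : Set ℕ} (h1 : 25 ∈ B) (h2 : 26 ∈ B) (h3 : 27 ∈ B) (h4 : 28 ∈ B) (h5 : 30 ∈ B) (h6 : 0 ∈ B) (h7 : 4 ∈ B) (h8 : 5 ∈ B) : FixTriv (K A 1) B :=
  fixTriv_step stab1 h1 <| fixTriv_step stab2 h2 <| fixTriv_step stab3 h3 <| fixTriv_step stab4 h4 <| fixTriv_step stab5 h5 <| fixTriv_step stab6 h6 <| fixTriv_step stab7 h7 <| fixTriv_step stab8 h8 <| fixTriv_last A (le_of_eq hlen) B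

theorem fixTriv2 {B : Set ℕ} (h2 : 26 ∈ B) (h3 : 27 ∈ B) (h4 : 28 ∈ B) (h5 : 30 ∈ B) (h6 : 0 ∈ B) (h7 : 4 ∈ B) (h8 : 5 ∈ B) : FixTriv (K A 2) B :=
  fixTriv_step stab2 h2 <| fixTriv_step stab3 h3 <| fixTriv_step stab4 h4 <| fixTriv_step stab5 h5 <| fixTriv_step stab6 h6 <| fixTriv_step stab7 h7 <| fixTriv_step stab8 h8 <| fixTriv_last A (le_of_eq hlen) B

theorem fixTriv3 {B : Set ℕ} (h3 : 27 ∈ B) (h4 : 28 ∈ B) (h5 : 30 ∈ B) (h6 : 0 ∈ B) (h7 : 4 ∈ B) (h8 : 5 ∈ B) : FixTriv (K A 3) B :=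
  fixTriv_step stab3 h3 <| fixTriv_step stab4 h4 <| fixTriv_step stab5 h5 <| fixTriv_step stab6 h6 <| fixTriv_step stab7 h7 <| fixTriv_step stab8 h8 <| fixTriv_last A (le_of_eq hlen) B

theorem fixTriv4 {B : Set ℕ} (h4 : 28 ∈ B) (h5 : 30 ∈ B) (h6 : 0 ∈ B) (h7 : 4 ∈ B) (h8 : 5 ∈ B) : FixTriv (K A 4) B :=
  fixTriv_step stab4 h4 <| fixTriv_step stab5 h5 <| fixTriv_step stab6 h6 <| fixTriv_step stab7 h7 <| fixTriv_step stab8 h8 <| fixTriv_last A (le_of_eq hlen) B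

theorem fixTriv5 {B : Set ℕ} (h5 : 30 ∈ B) (h6 : 0 ∈ B) (h7 : 4 ∈ B) (h8 : 5 ∈ B) : FixTriv (K A 5) B :=
  fixTriv_step stab5 h5 <| fixTriv_step stab6 h6 <| fixTriv_step stab7 h7 <| fixTriv_step stab8 h8 <| fixTriv_last A (le_of_eq hlen) B

theorem fixTriv6 {B : Set ℕ} (h6 : 0 ∈ B) (h7 : 4 ∈ B) (h8 : 5 ∈ B) : FixTriv (K A 6) B :=
  fixTriv_step stab6 h6 <| fixTriv_step stab7 h7 <| fixTriv_step stab8 h8 <| fixTriv_last A (le_of_eq hlen) B

theorem fixTriv7 {B : Set ℕ} (h7 : 4 ∈ B) (h8 : 5 ∈ B) : FixTriv (K A 8) B :=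
  fixTriv_step stab7 h7 <| fixTriv_step stab8 h8 <| fixTriv_last A (le_of_eq hlen) B

theorem fixTriv8 {B : Set ℕ} (h8 : 5 ∈ B) : FixTriv (K A 10) B :=
  fixTriv_step stab8 h8 <| fixTriv_last A (le_of_eq hlen) B


end Cfsg.Agent.Golay.H1551
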